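/-
Squares of the lifts of lattice vectors in a group of Monster type.
-/
import Cfsg.Agent.MonsterPlus.PairClass
import Cfsg.Prelude.Def_MonsterType

set_option autoImplicit false

namespace CfsgLib.MonsterPlus

open Cfsg CfsgLib.Leech

theorem inj3 {α : Type*} {a b c : α} (hab : a ≠ b) (hac : a ≠ c) (hbc : b ≠ c) : Function.Injective ![a, b, c] := by
  intro s t hst
  fin_cases s <;> fin_cases t <;> simp at hst ⊢
  all_goals first | exact hab hst | exact hac hst | exact hbc hst | exact hab hst.symm | exact hac hst.symm | exact hbc hst.symm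

/-- An element of a centre of order two is fixed by every automorphism and has square one. -/
theorem center_two {K : Type*} [Group K] (h : Nat.card (Subgroup.center K) = 2) {a : K} (ha : a ∈ Subgroup.center K) :
    a * a = 1 ∧ ∀ α : MulAut K, α a = a := by
  have h2 : ∀ b ∈ Subgroup.center K, b * b = 1 := fun b hb => by
    have := pow_card_eq_one' (x := (⟨b, hb⟩ : Subgroup.center K))
    rw [h, pow_two] at this
    exact congrArg Subtype.val this
  refine ⟨h2 a ha, fun α => ?_⟩
  rcases eq_or_ne a 1 with rfl | hne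
  · exact map_one α
  have hmem : α a ∈ Subgroup.center K := Subgroup.mem_center_iff.2 fun g => by
    obtain ⟨g', rfl⟩ := α.surjective g
    rw [← map_mul, ← map_mul, Subgroup.mem_center_iff.1 ha g']
  obtain ⟨u, v, huv, he⟩ := Nat.card_eq_two_iff.1 h
  have key : ∀ x : Subgroup.center K, x = u ∨ x = v := fun x => by
    have : x ∈ ({u, v} : Set _) := he ▸ Set.mem_univ x
    simpa using this
  have h1 : (⟨α a, hmem⟩ : Subgroup.center K) ≠ 1 := fun e => hne (α.injective ((congrArg Subtype.val e).trans (map_one α).symm))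
  have h3 : (⟨a, ha⟩ : Subgroup.center K) ≠ 1 := fun e => hne (congrArg Subtype.val e)
  rcases key ⟨α a, hmem⟩ with e1 | e1 <;> rcases key ⟨a, ha⟩ with e2 | e2 <;> rcases key 1 with e3 | e3
  all_goals first
    | exact congrArg Subtype.val (e1.trans e2.symm)
    | exact absurd (e1.trans e3.symm) h1
    | exact absurd (e2.trans e3.symm) h3


variable {G : Type*} [Group G] {z : G} {Q : Subgroup (Subgroup.centralizer ({z} : Set G))} [Q.Normal]
  {e : (Subgroup.centralizer ({z} : Set G)) ⧸ Q ≃* Cfsg.Spor.Co1}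
  {ψ : Cfsg.leechLattice → Q ⧸ Subgroup.center Q}

theorem exists_lift (g : Co0) : ∃ h : Subgroup.centralizer ({z} : Set G), (QuotientGroup.mk g : Spor.Co1) = e (QuotientGroup.mk h) := by
  obtain ⟨h, hh⟩ := QuotientGroup.mk_surjective (e.symm (QuotientGroup.mk g))
  exact ⟨h, by rw [hh, MulEquiv.apply_symm_apply]⟩

/-- The lifts of a minimal vector and of a coordinate vector square to one. -/
theorem sq_basic (hQ : IsExtraspecial 2 Q) (hψ : IsLeechModTwoIso Q e ψ) :
    (∀ q : Q, (QuotientGroup.mk q : Q ⧸ Subgroup.center Q) = ψ (P pa pb) → q * q = 1) ∧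
    ∀ q : Q, (QuotientGroup.mk q : Q ⧸ Subgroup.center Q) = ψ (P pa pa) → q * q = 1 := by
  classical
  obtain ⟨⟨-, -, -⟩, hZ⟩ := hQ
  obtain ⟨hadd, hsurj, hker, heq⟩ := hψ
  let Z := Subgroup.center Q
  have cz := fun {a : Q} (ha : a ∈ Z) => center_two hZ ha
  let μ : Q →* Q ⧸ Z := QuotientGroup.mk' Z
  have h0 : ψ 0 = 1 := (hker 0).2 ⟨0, (add_zero 0).symm⟩
  have hdbl : ∀ v, ψ v * ψ v = 1 := fun v => by rw [← hadd]; exact (hker _).2 ⟨v, rfl⟩
  have hcz : ∀ a b, μ a = μ b → ∃ c ∈ Z, b = a * c := fun a b h => by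
    obtain ⟨c, hc, h'⟩ := (QuotientGroup.mk'_eq_mk' Z).1 h
    exact ⟨c, hc, h'.symm⟩
  have hcomm : ∀ a b : Q, ∃ ε ∈ Z, a * b = ε * (b * a) := fun a b => by
    obtain ⟨v, hv⟩ := hsurj (μ a)
    obtain ⟨w, hw⟩ := hsurj (μ b)
    obtain ⟨c, hc, h⟩ := hcz (b * a) (a * b) (by rw [map_mul, map_mul, ← hv, ← hw, ← hadd, ← hadd, add_comm])
    exact ⟨c, hc, h.trans (Subgroup.mem_center_iff.1 hc (b * a))⟩
  have hsqZ : ∀ a : Q, a * a ∈ Z := fun a => by
    obtain ⟨v, hv⟩ := hsurj (μ a)
    rw [← QuotientGroup.eq_one_iff]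
    show μ (a * a) = 1
    rw [map_mul, ← hv, hdbl]
  have sq_congr : ∀ a b, μ a = μ b → b * b = a * a := fun a b h => by
    obtain ⟨c, hc, rfl⟩ := hcz a b h
    have hcm : Commute c a := (Subgroup.mem_center_iff.1 hc a).symm
    rw [mul_assoc a c, ← mul_assoc c a, hcm.eq, mul_assoc a c, (cz hc).1, mul_one]
  have cm_congr : ∀ a b a', μ a = μ a' → Commute a b → Commute a' b := fun a b a' h hab => by
    obtain ⟨c, hc, rfl⟩ := hcz a a' h
    exact hab.mul_left (Subgroup.mem_center_iff.1 hc b).symm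
  -- a lift of a lattice vector
  have hL : ∀ v : leechLattice, ∃ q : Q, μ q = ψ v := fun v => QuotientGroup.mk'_surjective Z (ψ v)
  choose L hL using hL
  -- conjugation
  have hconj : ∀ g : Co0, ∃ α : MulAut Q, ∀ v, μ (α (L v)) = ψ (g.1 v) := by
    intro g
    obtain ⟨h, hh⟩ := QuotientGroup.mk_surjective (e.symm (QuotientGroup.mk g))
    refine ⟨MulAut.conjNormal h, fun v => ?_⟩
    have := heq h g (by rw [hh, MulEquiv.apply_symm_apply]) v (L v) (hL v).symm
    exact this.symm.trans rfl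
  have hsq : ∀ (g : Co0) v, L (g.1 v) * L (g.1 v) = L v * L v := fun g v => by
    obtain ⟨α, hα⟩ := hconj g
    rw [sq_congr (α (L v)) (L (g.1 v)) ((hα v).trans (hL _).symm), ← map_mul, (cz (hsqZ _)).2]
  have hcm : ∀ (g : Co0) v w, Commute (L v) (L w) → Commute (L (g.1 v)) (L (g.1 w)) := fun g v w h => by
    obtain ⟨α, hα⟩ := hconj g
    exact (cm_congr _ _ _ ((hα w).trans (hL _).symm) (cm_congr _ _ _ ((hα v).trans (hL _).symm) (h.map α)).symm).symm
  have hperm : ∀ x y z i j k : GolayPt, x ≠ y → x ≠ z → y ≠ z → i ≠ j → i ≠ k → j ≠ k →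
      ∃ g : Co0, g.1 (P x y) = P i j ∧ g.1 (P y z) = P j k ∧ g.1 (P x z) = P i k := by
    intro x y z i j k h1 h2 h3 h4 h5 h6
    obtain ⟨σ, hσ, hv⟩ := CfsgLib.Golay.exists_map_tuple (n := 3) (by norm_num) ![x, y, z] ![i, j, k]
      (inj3 h1 h2 h3) (inj3 h4 h5 h6)
    have e0 : σ x = i := hv 0
    have e1 : σ y = j := hv 1
    have e2 : σ z = k := hv 2
    exact ⟨mono hσ empty_mem, by rw [perm_P, e0, e1], by rw [perm_P, e1, e2], by rw [perm_P, e0, e2]⟩
  have hab : pa ≠ pb := by decide
  have hac : pa ≠ pc := by decide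
  have hbc : pb ≠ pc := by decide
  -- the basic triple
  have htri0 : Commute (L (P pa pb)) (L (P pb pc)) := by
    obtain ⟨α, hα⟩ := hconj gX
    set x := L (P pa pb) with hx
    set y := L v1
    have hxa : μ x = μ (α x) := by rw [hα, gX_u, hx, hL]
    obtain ⟨ε, hε, he1⟩ := hcomm x y
    obtain ⟨c, hc, hxc⟩ := hcz x (α x) hxa
    have hc' : ∀ q, q * c = c * q := fun q => Subgroup.mem_center_iff.1 hc q
    have he2 : x * α y = ε * (α y * x) := by
      have h := congrArg α he1
      rw [map_mul, map_mul, map_mul, (cz hε).2, hxc, mul_assoc, ← hc', ← mul_assoc, ← mul_assoc (α y) x c,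
        ← mul_assoc ε] at h
      exact mul_right_cancel h
    have hε' : ∀ q, q * ε = ε * q := fun q => Subgroup.mem_center_iff.1 hε q
    have hcomm2 : Commute x (α y * y) := by
      show x * (α y * y) = α y * y * x
      calc x * (α y * y) = ε * (α y * x) * y := by rw [← mul_assoc, he2]
        _ = ε * α y * (x * y) := by group
        _ = ε * α y * ε * (y * x) := by rw [he1]; group
        _ = ε * ε * (α y * y * x) := by rw [mul_assoc ε (α y) ε, hε' (α y)]; group
        _ = α y * y * x := by rw [(cz hε).1, one_mul]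
    refine (cm_congr _ _ _ ?_ hcomm2.symm).symm
    rw [map_mul, hα, hL, hL, ← hadd, gX_v1]
  have htri : ∀ i j k, i ≠ j → i ≠ k → j ≠ k → Commute (L (P i j)) (L (P j k)) := by
    intro i j k h1 h2 h3
    obtain ⟨g, e1, e2, -⟩ := hperm pa pb pc i j k hab hac hbc h1 h2 h3
    rw [← e1, ← e2]
    exact hcm g _ _ htri0
  have hex : ∀ i j : GolayPt, ∃ k, i ≠ k ∧ j ≠ k := fun i j => by
    revert i j
    decide
  have hshare : ∀ i j k, i ≠ j → j ≠ k → Commute (L (P i j)) (L (P j k)) := by
    intro i j k h1 h3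
    rcases eq_or_ne i k with rfl | h2
    · rw [P_comm j i]
    · exact htri i j k h1 h2 h3
  -- lift of a diagonal vector
  have hdiag : ∀ i j k, i ≠ j → i ≠ k → j ≠ k →
      μ (L (P i j) * L (P j k) * L (P i k)) = μ (L (P j j)) := by
    intro i j k _ _ _
    rw [map_mul, map_mul, hL, hL, hL, hL, ← hadd, P_add, hadd, mul_assoc]
    have : ψ (P j j) * ψ (P i k) = ψ (P i k) * ψ (P j j) := by rw [← hadd, ← hadd, add_comm]
    rw [this, ← mul_assoc, hdbl, one_mul]
  have hsame : ∀ i j, i ≠ j → L (P i j) * L (P i j) = L (P pa pb) * L (P pa pb) := by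
    intro i j hij
    obtain ⟨k, h1, h2⟩ := hex i j
    obtain ⟨g, e1, -, -⟩ := hperm pa pb pc i j k hab hac hbc hij h1 h2
    rw [← e1, hsq]
  have hone : L (P pa pb) * L (P pa pb) = 1 := by
    set a0 := L (P pa pb) * L (P pa pb) with ha0
    set x := L (P pa pb)
    set y := L (P pa pc)
    set w := L (P pb pc)
    have c1 : Commute x y := by rw [show x = L (P pb pa) by rw [P_comm pb pa]]; exact hshare pb pa pc hab.symm hac
    have c2 : Commute x w := hshare pa pb pc hab hbc
    have c3 : Commute y w := by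
      have := hshare pa pc pb hac hbc.symm
      rwa [P_comm pc pb] at this
    have hy : y * y = a0 := hsame pa pc hac
    have hw : w * w = a0 := hsame pb pc hbc
    have hxc : Commute x (x * y * w) := (((Commute.refl x).mul_right c1).mul_right c2)
    have ht : x * y * w * (x * y * w) = a0 := by
      have e1 : x * y * w * (x * y * w) = x * x * (y * y) * (w * w) := by
        rw [(c2.symm.mul_right (c3.symm)).mul_mul_mul_comm, c1.symm.mul_mul_mul_comm]
      rw [e1, hy, hw, ← ha0, (cz (hsqZ x)).1, one_mul]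
    -- the vector obtained by a sign change
    have hd : μ (x * (x * y * w)) = μ (L (gO.1 (P pa pb))) := by
      have e2 : μ (x * y * w) = μ (L (P pa pa)) := by
        have := hdiag pb pa pc hab.symm hbc hac
        rwa [P_comm pb pa] at this
      rw [map_mul, e2, hL, hL, hL, ← gO_u, ← hadd, add_left_comm, hadd, hadd, hdbl, mul_one]
    have h1 := sq_congr _ _ hd
    rw [hsq, ← ha0, hxc.symm.mul_mul_mul_comm, ← ha0, ht] at h1
    exact h1.trans (cz (hsqZ x)).1
  refine ⟨fun q hq => (sq_congr (L (P pa pb)) q ((hL _).trans hq.symm)).trans hone, fun q hq => ?_⟩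
  have c1 : Commute (L (P pb pa)) (L (P pa pc)) := hshare pb pa pc hab.symm hac
  have c2 : Commute (L (P pb pa)) (L (P pb pc)) := by rw [P_comm pb pa]; exact hshare pa pb pc hab hbc
  have c3 : Commute (L (P pa pc)) (L (P pb pc)) := by
    have := hshare pa pc pb hac hbc.symm
    rwa [P_comm pc pb] at this
  have e := sq_congr (L (P pb pa) * L (P pa pc) * L (P pb pc)) q ((hdiag pb pa pc hab.symm hbc hac).trans ((hL _).trans hq.symm))
  rw [(c2.symm.mul_right c3.symm).mul_mul_mul_comm, c1.symm.mul_mul_mul_comm, hsame pb pa hab.symm,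
    hsame pa pc hac, hsame pb pc hbc, hone, one_mul, one_mul] at e
  exact e

end CfsgLib.MonsterPlus
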